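import Mathlib
import Cfsg.Agent.Lib.StdW.Cov

/-! Standard subgroups of type `A₅`, `A₆` with cyclic Sylow 2-subgroups in the centraliser: the frames. -/

set_option autoImplicit false

namespace H80.A6C

open Subgroup H69 H36.SW

/-- `S₅` -/
abbrev S5 := Equiv.Perm (Fin 5)
/-- `A₅` -/
abbrev J5 : Subgroup S5 := alternatingGroup (Fin 5)
/-- `S₆`; the points are `0, …, 5` -/
abbrev S6 := Equiv.Perm (Fin 6)
/-- `A₆` -/
abbrev A6 : Subgroup S6 := alternatingGroup (Fin 6)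
/-- `Aut A₆` -/
abbrev X6 := MulAut A6
/-- `S₆` inside `Aut A₆` -/
def io : S6 →* X6 := MulAut.conjNormal
/-- the inner automorphisms -/
def J6 : Subgroup X6 := A6.map io
/-- the automorphisms induced by `S₆` -/
def Y6 : Subgroup X6 := io.range
/-- `(01)(23)` -/
def pz : S6 := Equiv.swap 0 1 * Equiv.swap 2 3
/-- `(02)(13)` -/
def pv1 : S6 := Equiv.swap 0 2 * Equiv.swap 1 3
/-- `(01)(45)` -/
def pv2 : S6 := Equiv.swap 0 1 * Equiv.swap 4 5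
/-- `(45)` -/
def pu : S6 := Equiv.swap 4 5
/-- the 3-cycle on `0, 1, 2` -/
def py1 : S6 := Equiv.swap 0 1 * Equiv.swap 0 2
/-- a product of two 3-cycles -/
def py2 : S6 := pv1 * (Equiv.swap 0 4 * Equiv.swap 1 5)
/-- a Sylow 2-subgroup of `A₆` -/
def pD : Subgroup S6 := closure {pv1, pv2}

variable {X : Type} [Group X] {G : Type*} [Group G]

/-- facts on the outer involutions -/
structure JF (J : Subgroup X) : Prop where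
  nJ : J.Normal
  inv : ∃ j ∈ J, j * j = 1 ∧ j ≠ 1
  sq4 : ∀ x : X, x * x * (x * x) = 1 → x * x ∈ J
  out : ∀ x y : X, x * x = 1 → y * y = 1 → x * y = y * x → x ∈ J ∨ y ∈ J ∨ x * y ∈ J
  cls : ∀ x : X, x ∉ J → x * x = 1 →
    ∃ n ∈ J, n * x * n⁻¹ ≠ x ∧ x * (n * x * n⁻¹) * (x * (n * x * n⁻¹)) = 1

/-- `A` is a cover of `J` whose centraliser is tightly embedded -/
structure St (J : Subgroup X) (A : Subgroup G) (α : G → X) : Prop where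
  cov : Cov J A α
  ti : ∀ g k, k * k = 1 → k ≠ 1 → k ∈ 𝐂(A) → g * k * g⁻¹ ∈ 𝐂(A) → g ∈ 𝐍(A)

/-- the centraliser of `A` has cyclic Sylow 2-subgroups, `G = E⟨t⟩` -/
structure H0 (J : Subgroup X) (E A : Subgroup G) (α : G → X) (t : G) : Prop extends St J A α where
  En : E.Normal
  Es : IsSimpleGroup E
  AE : A ≤ E
  top : ∀ g, g ∈ E ∨ g * t ∈ E
  cE : ∀ g ∈ 𝐂(E), g = 1
  tt : t * t = 1
  t1 : t ≠ 1
  tA : t ∈ 𝐂(A)
  cyc : ∀ P ≤ 𝐂(A), IsPGroup 2 P → IsCyclic P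
  rk : ∀ a ∈ 𝐂(A), ∀ b ∈ 𝐂(A), a * a = 1 → b * b = 1 → a * b = b * a → a = 1 ∨ b = 1 ∨ a = b
  zs : ∃ g, g * t * g⁻¹ ≠ t ∧ g * t * g⁻¹ * t = t * (g * t * g⁻¹)

/-- `⟨t⟩` is a Sylow 2-subgroup of `C(A)` -/
structure H1 (J : Subgroup X) (E A : Subgroup G) (α : G → X) (t : G) : Prop extends H0 J E A α t where
  k2 : ∀ k ∈ 𝐂(A), k * t = t * k → P2 k → k = 1 ∨ k = t

/-- The local frame: a Sylow 2-subgroup `T` of `C(t)`, `R = T ∩ C(A)`, `⟨v1, v2⟩ = T ∩ A`. -/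
structure Lf (G : Type*) [Group G] where
  T : Subgroup G
  R : Subgroup G
  t : G
  z : G
  v1 : G
  v2 : G
  f : G
  syl : IsSylowIn 2 T (centralizer {t})
  tt : t * t = 1
  t1 : t ≠ 1
  zz : z * z = 1
  z1 : z ≠ 1
  v11 : v1 * v1 = 1
  v22 : v2 * v2 = 1
  hz : v1 * v2 * v1 * v2 = z
  v1T : v1 ∈ T
  v2T : v2 ∈ T
  fT : f ∈ T
  RT : R ≤ T
  tR : t ∈ R
  zR : z ∉ R
  cyc : IsCyclic R
  Rn : T ≤ 𝐍(R)
  Dn : T ≤ 𝐍(closure ({v1, v2} : Set G))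
  Rv1 : ∀ r ∈ R, r * v1 = v1 * r
  Rv2 : ∀ r ∈ R, r * v2 = v2 * r
  fv1 : f * v1 = v1 * f
  fv2 : f * v2 = v2 * f
  ff : f * f ∈ R
  hf : f = 1 ∨ (f ∉ R ∧ z * f ∉ R)
  idx : ∀ x ∈ T, ∀ y ∈ T, x ∉ R ⊔ closure ({v1, v2, f} : Set G) → y ∉ R ⊔ closure ({v1, v2, f} : Set G) →
    x * y ∈ R ⊔ closure ({v1, v2, f} : Set G)
  sw1 : ∀ x ∈ T, x ∉ R ⊔ closure ({v1, v2, f} : Set G) → x * v1 * x⁻¹ = v2 ∨ x * v1 * x⁻¹ = z * v2
  sw2 : ∀ x ∈ T, x ∉ R ⊔ closure ({v1, v2, f} : Set G) → x * v2 * x⁻¹ = v1 ∨ x * v2 * x⁻¹ = z * v1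
  swf : ∀ x ∈ T, x ∉ R ⊔ closure ({v1, v2, f} : Set G) → f ≠ 1 → x * f * x⁻¹ * (z * f)⁻¹ ∈ R

namespace Lf
variable (F : Lf G)

/-- the dihedral group of order 8 -/
def D : Subgroup G := closure {F.v1, F.v2}
/-- the part of `T` that does not swap the two four-groups of `D` -/
def T0 : Subgroup G := F.R ⊔ closure {F.v1, F.v2, F.f}
/-- `R = ⟨t⟩` -/
def R2 : Prop := ∀ r ∈ F.R, r = 1 ∨ r = F.t

/-- an element that swaps `v1` and `v2` -/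
structure Dl (τ : G) : Prop where
  τT : τ ∈ F.T
  τ0 : τ ∉ F.T0
  τ1 : τ * F.v1 * τ⁻¹ = F.v2
  τ2 : τ * F.v2 * τ⁻¹ = F.v1
  ττ : τ * τ ∈ F.R

/-- a 2-element of `N(T)` that swaps `t` and `z` -/
structure Sw (m : G) : Prop where
  mT : m ∈ 𝐍(F.T)
  m2 : P2 m
  mt : m * F.t * m⁻¹ = F.z
  mz : m * F.z * m⁻¹ = F.t

/-- `T0 = D × D ^ m` -/
structure DD (m : G) : Prop extends F.Sw m where
  mm : m * m ∈ F.T
  cm : ∀ a ∈ F.D, ∀ b ∈ F.D, a * (m * b * m⁻¹) = m * b * m⁻¹ * a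
  gen : ∀ x, x ∈ F.T0 ↔ ∃ a ∈ F.D, ∃ b ∈ F.D, x = a * (m * b * m⁻¹)

end Lf

/-- the concrete frame -/
structure Cf (F : Lf G) (E A : Subgroup G) (α : G → X6) : Prop extends H0 J6 E A α F.t where
  hR : F.R = F.T ⊓ 𝐂(A)
  v1A : F.v1 ∈ A
  v2A : F.v2 ∈ A
  av1 : α F.v1 = io pv1
  av2 : α F.v2 = io pv2
  az : α F.z = io pz
  af : F.f = 1 ∨ α F.f = io pu
  h0 : ∀ x ∈ F.T, x ∈ F.T0 ↔ α x ∈ Y6

theorem eqns_Defs : True := by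
  have := @io.eq_1
  have := @J6.eq_1
  have := @Y6.eq_1
  have := @pz.eq_1
  have := @pv1.eq_1
  have := @pv2.eq_1
  have := @pu.eq_1
  have := @py1.eq_1
  have := @py2.eq_1
  have := @pD.eq_1
  have := @Lf.D.eq_1.{0}
  have := @Lf.T0.eq_1.{0}
  have := @Lf.R2.eq_1.{0}
  trivial

end H80.A6C
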