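import Mathlib
import Cfsg.Agent.Lib.A6C.Cv
import Cfsg.Agent.Lib.ZD.BW
import Cfsg.Agent.Lib.Core.PCore
import Cfsg.Agent.Lib.Comp.Component

/-! The hypotheses in `E⟨t⟩`. -/

set_option autoImplicit false

namespace H80.A6C

open Subgroup H69 H36.SW

variable {X : Type} [Group X] {G : Type*} [Group G] [Finite G]
variable {J : Subgroup X} {A E : Subgroup G} {α : G → X} {t : G}

/-- restriction to a subgroup containing `A` -/
theorem St.sub (s : St J A α) {M : Subgroup G} (hM : A ≤ M) :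
    St J (A.subgroupOf M) fun x : M => α x := by
  have hN : ∀ g : M, g ∈ 𝐍(A.subgroupOf M) ↔ (g : G) ∈ 𝐍(A) := fun g => by
    refine ⟨fun h => mem_normalizer_of_cj_le fun x hx => ?_, fun h => mem_normalizer_of_cj_le fun x hx => ?_⟩
    · obtain ⟨a, ha, rfl⟩ := mem_cj'.1 hx
      exact conj_mem_of_mem_normalizer (a := (⟨a, hM ha⟩ : M)) h ha
    · obtain ⟨a, ha, rfl⟩ := mem_cj'.1 hx
      exact conj_mem_of_mem_normalizer (A := A) h ha
  have hC : ∀ g : M, g ∈ 𝐂(A.subgroupOf M) ↔ (g : G) ∈ 𝐂(A) := fun g =>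
    ⟨fun h a ha => congrArg Subtype.val (h ⟨a, hM ha⟩ ha), fun h a ha => Subtype.ext (h a ha)⟩
  refine ⟨⟨fun g hg k hk => s.cov.mul _ ((hN _).1 hg) _ ((hN _).1 hk), fun a ha => s.cov.mem _ ha,
    fun j hj => ?_, fun g hg => (s.cov.ker _ ((hN _).1 hg)).trans (hC _).symm, fun a ha e => ?_, ?_⟩,
    fun g k k2 k1 h1 h2 => (hN _).2 (s.ti g k (congrArg Subtype.val k2) (fun e => k1 (Subtype.ext e))
      ((hC _).1 h1) ((hC _).1 h2))⟩
  · obtain ⟨a, ha, e⟩ := s.cov.onto j hj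
    exact ⟨⟨a, hM ha⟩, ha, e⟩
  · rw [← Subgroup.orderOf_coe]; exact s.cov.odd _ ha e
  · rw [← map_le_map_iff_of_injective M.subtype_injective, map_commutator,
      map_subgroupOf_eq_of_le hM]
    exact s.cov.perf

theorem St.h0 (s : St J A α) (hJ : JF J) (En : E.Normal) (Es : IsSimpleGroup E) (AE : A ≤ E)
    (cE : ∀ g ∈ 𝐂(E), g = 1) (tt : t * t = 1) (t1 : t ≠ 1) (tA : t ∈ 𝐂(A))
    (cyc : ∀ P ≤ 𝐂(A), IsPGroup 2 P → IsCyclic P) :
    H0 J (E.subgroupOf (E ⊔ zpowers t)) (A.subgroupOf (E ⊔ zpowers t)) (fun x => α x)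
      ⟨t, mem_sup_right (mem_zpowers t)⟩ := by
  have rk := rk_of cyc
  have hM : A ≤ E ⊔ zpowers t := AE.trans le_sup_left
  have hC : ∀ g : ↥(E ⊔ zpowers t), g ∈ 𝐂(A.subgroupOf (E ⊔ zpowers t)) ↔ (g : G) ∈ 𝐂(A) := fun g =>
    ⟨fun h a ha => congrArg Subtype.val (h ⟨a, hM ha⟩ ha), fun h a ha => Subtype.ext (h a ha)⟩
  refine ⟨s.sub hM, En.subgroupOf _, (subgroupOfEquivOfLe le_sup_left).isSimpleGroup,
    fun a ha => AE ha, fun g => ?_, fun g hg => Subtype.ext (cE _ fun a ha =>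
      congrArg Subtype.val (hg ⟨a, mem_sup_left ha⟩ ha)), Subtype.ext tt,
    fun e => t1 (congrArg Subtype.val e), (hC _).2 tA, fun P hP p => ?_, fun a ha b hb a2 b2 c => ?_, ?_⟩
  · obtain ⟨y, hy, w, hw, e⟩ := mem_sup_of_normal_left.1 g.2
    simp only [mem_subgroupOf, coe_mul, ← e]
    rcases (mem_zp tt).1 hw with rfl | rfl
    · exact Or.inl (by rwa [mul_one])
    · exact Or.inr (by rwa [mul_assoc, tt, mul_one])
  · haveI := cyc (P.map (E ⊔ zpowers t).subtype) (fun _ ⟨x, hx, e⟩ => e ▸ (hC x).1 (hP hx)) (p.map _)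
    exact isCyclic_of_injective (P.equivMapOfInjective _ (subtype_injective _)).toMonoidHom
      (MulEquiv.injective _)
  · simpa only [Subtype.ext_iff, coe_one] using rk a ((hC _).1 ha) b ((hC _).1 hb) (congrArg Subtype.val a2)
      (congrArg Subtype.val b2) (congrArg Subtype.val c)
  · by_contra k
    have h : ∀ g ∈ E ⊔ zpowers t, t * (g * t * g⁻¹) = (g * t * g⁻¹) * t → g * t * g⁻¹ = t :=
      fun g hg c => by_contra fun n => k ⟨⟨g, hg⟩, fun e => n (congrArg Subtype.val e), Subtype.ext c.symm⟩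
    have ho := H42.BSE.odd_card_Od (E ⊔ zpowers t)
    have hn : (((H42.BSE.Od (E ⊔ zpowers t))).subgroupOf E).Normal := ⟨fun x hx g =>
      conj_mem_of_mem_normalizer (A := H42.BSE.Od (E ⊔ zpowers t))
        (H45.pcore_norm _ _ (mem_sup_left g.2)) hx⟩
    obtain ⟨j, hj, j2, j1⟩ := hJ.inv
    obtain ⟨a, ha, ea, a2⟩ := s.cov.lifti hj j2
    have a1 : a ≠ 1 := fun e => j1 (by rw [← ea, e, s.cov.one])
    rcases hn.eq_bot_or_eq_top with e | e
    · refine t1 (cE t fun x hx => ?_)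
      have h1 := H24.ZD.zstar_comm (mem_sup_right (mem_zpowers t)) tt h (mem_sup_left hx)
      have : (⟨t * x * t⁻¹ * x⁻¹, mul_mem (En.conj_mem x hx t) (inv_mem hx)⟩ : E) ∈
        (H42.BSE.Od (E ⊔ zpowers t)).subgroupOf E := h1
      rw [e, mem_bot, Subtype.ext_iff] at this
      calc x * t = t * x * t⁻¹ * x⁻¹ * (x * t) := by rw [show t * x * t⁻¹ * x⁻¹ = 1 from this, one_mul]
        _ = t * x := by group
    · have : a ∈ H42.BSE.Od (E ⊔ zpowers t) := subgroupOf_eq_top.1 e (AE ha)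
      exact a1 ((P2.of_sq a2).eq_one (ho.of_dvd_nat (orderOf_dvd_natCard _ this)))

end H80.A6C
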