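import Mathlib
import Cfsg.Agent.Lib.A6C.N5
import Cfsg.Agent.Lib.A6C.Red
import Cfsg.Agent.Lib.A6C.FA
import Cfsg.Agent.Lib.A6C.FB
import Cfsg.Agent.Lib.A6C.Iab
import Cfsg.Agent.Lib.A6C.Ic
import Cfsg.Agent.Lib.A6C.R2
import Cfsg.Agent.Lib.A6C.R3
import Cfsg.Agent.Lib.A6C.R4
import Cfsg.Agent.Lib.A6C.R5

/-! The case `A₆`: small sectional rank or the abstract frame. -/

set_option autoImplicit false

namespace H80.A6C

open Subgroup H69 H36.SW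

variable {G : Type*} [Group G] [Finite G] {A E : Subgroup G} {α : G → X6} {t : G}

theorem H0.six (h : H0 J6 E A α t) : Cfsg.SectionalPRankLE 2 4 G ∨ ∃ F : H25.A6.Fr G, F.E = E := by
  obtain ⟨F, rfl, c⟩ := h.frame
  rcases h.h1 with ⟨r, hr, r2⟩ | h1
  · obtain ⟨r, rT, hr, r2⟩ := h.rT F.syl hr r2
    have zA : F.z ∈ A := F.hz ▸ mul_mem (mul_mem (mul_mem c.v1A c.v2A) c.v1A) c.v2A
    obtain ⟨g, hg⟩ := h.zt jf6 hr r2 zA F.zz fun x hx x2 x1 => c.az ▸ inv6 hx x2 x1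
    obtain ⟨m, s⟩ := F.exSw (c.hR.ge ⟨rT, hr⟩) r2 hg
    by_cases h0 : ∀ x ∈ F.T, x ∈ F.T0
    · exact Or.inl (s.dd.wr h0)
    · push Not at h0
      exact Or.inl (s.dd.out h0)
  have hR : F.R2 := fun r hr => h1.k2 r (c.hR.le hr).2 (F.Tt (F.RT hr)) (F.T2 (F.RT hr))
  by_cases f1 : F.f = 1
  · exact Or.inl (F.Ia hR f1)
  rcases hR _ F.ff with ff | ff
  swap
  · exact Or.inl (F.Ib hR ff)
  by_cases h0 : ∀ x ∈ F.T, x ∈ F.T0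
  · exact Or.inr (c.fr h1 f1 ff (Or.inl ⟨rfl, h0⟩))
  push Not at h0
  obtain ⟨τ, d⟩ := F.exDl f1 h0
  rcases hR _ (F.swf τ d.τT d.τ0 f1) with e | e
  · exact Or.inr (c.fr h1 f1 ff (Or.inr ⟨d, mul_inv_eq_one.1 e⟩))
  · exact Or.inl (F.Ic hR f1 ff d (mul_inv_eq_iff_eq_mul.1 e))

end H80.A6C
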