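import Mathlib
import Cfsg.Agent.Lib.A6C.Defs
import Cfsg.Agent.Lib.Tech58.Harada
import Cfsg.Agent.Lib.FGS83.SecRank
import Cfsg.Agent.S1232
import Cfsg.Agent.S0501

/-! Sectional rank tools. -/

set_option autoImplicit false

namespace H80.A6C

open Subgroup H69 H36.SW

variable {G : Type*} [Group G] [Finite G] {S W : Subgroup G}

namespace SR

theorem of_sec (hS : IsSylowIn 2 S ⊤) (h : Cfsg.SectionalPRankLE 2 4 S) : Cfsg.SectionalPRankLE 2 4 G :=
  H58.Har.sr_of_sylow hS fun H K hH hK hsq => by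
    rw [← H4.card_mul_relIndex_of_le hK, mul_comm]
    exact Nat.mul_le_mul_right _ (H83.sr_subgroup_iff.1 (H83.sr_of_sectional h) H K hH hK hsq)

theorem sr8a (hS : IsSylowIn 2 S ⊤) (hW : W ≤ S) (h2 : ∀ a ∈ W, a * a = 1) (h8 : Nat.card W = 8)
    (hC : ∀ x ∈ S, x ∈ 𝐂(W) → x ∈ W) : Cfsg.SectionalPRankLE 2 4 G := by
  refine of_sec hS (Cfsg.Agent.S1232.result hS.isP (W.subgroupOf S)
    ⟨⟨⟨fun a b => Subtype.ext (Subtype.ext (comm_of_sq h2 a.2 b.2))⟩⟩,
      fun a ha => Subtype.ext (by rw [sq]; exact h2 a ha)⟩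
    (by rw [Nat.card_congr (subgroupOfEquivOfLe hW).toEquiv, h8]) (le_antisymm (fun x hx => ?_) fun x hx => ?_))
  · exact hC x x.2 (mem_centralizer_iff.2 fun w hw =>
      congrArg Subtype.val (mem_centralizer_iff.1 hx ⟨w, hW hw⟩ hw))
  · exact mem_centralizer_iff.2 fun w hw => Subtype.ext (comm_of_sq h2 hw hx)

theorem adj2 {A : Subgroup G} {c : G} (hA : ∀ x ∈ A, x * x = 1) (cc : c * c = 1)
    (hc : A ≤ centralizer {c}) (hn : c ∉ A) :
    (∀ x, x ∈ A ⊔ zpowers c → x ∈ A ∨ ∃ a ∈ A, x = a * c) ∧ (∀ x ∈ A ⊔ zpowers c, x * x = 1) ∧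
      Nat.card (A ⊔ zpowers c : Subgroup G) = Nat.card A * 2 := by
  have k : ∀ a ∈ A, ∀ b ∈ zpowers c, a * b = b * a := fun a ha b hb => by
    rcases (mem_zp cc).1 hb with rfl | rfl
    · rw [mul_one, one_mul]
    · exact mem_centralizer_singleton_iff.1 (hc ha)
  have m : ∀ x, x ∈ A ⊔ zpowers c → x ∈ A ∨ ∃ a ∈ A, x = a * c := fun x hx => by
    obtain ⟨a, ha, b, hb, rfl⟩ := (mem_sup_comm k).1 hx
    rcases (mem_zp cc).1 hb with rfl | rfl
    · exact Or.inl (by rwa [mul_one])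
    · exact Or.inr ⟨a, ha, rfl⟩
  refine ⟨m, fun x hx => ?_, ?_⟩
  · rcases m x hx with h | ⟨a, ha, rfl⟩
    · exact hA x h
    · rw [mul_assoc, ← mul_assoc c, ← k a ha c (mem_zpowers c), mul_assoc, cc, mul_one, hA a ha]
  · rw [card_sup_comm k fun a ha hb => ((mem_zp cc).1 hb).resolve_right fun e => hn (e ▸ ha),
      card_zp cc fun e => hn (e ▸ one_mem _)]

theorem e8 {a b c : G} (aa : a * a = 1) (bb : b * b = 1) (cc : c * c = 1) (ab : a * b = b * a)
    (ac : a * c = c * a) (bc : b * c = c * b) (a1 : a ≠ 1) (b1 : b ≠ 1) (nab : b ≠ a) (c1 : c ≠ 1)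
    (nca : c ≠ a) (ncb : c ≠ b) (ncab : c ≠ a * b) :
    (∀ x ∈ closure ({a, b, c} : Set G), x * x = 1) ∧ Nat.card (closure ({a, b, c} : Set G)) = 8 := by
  have e : closure ({a, b, c} : Set G) = zpowers a ⊔ zpowers b ⊔ zpowers c := by
    rw [zpowers_eq_closure, zpowers_eq_closure, zpowers_eq_closure, ← Subgroup.closure_union, ← Subgroup.closure_union,
      Set.union_assoc]
    rfl
  obtain ⟨m1, h1, k1⟩ := adj2 (A := zpowers a) (fun x hx => by
      rcases (mem_zp aa).1 hx with rfl | rfl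
      exacts [mul_one _, aa]) bb (zpowers_le.2 (mem_centralizer_singleton_iff.2 ab))
    fun hb => ((mem_zp aa).1 hb).elim b1 nab
  obtain ⟨-, h2, k2⟩ := adj2 h1 cc (sup_le (zpowers_le.2 (mem_centralizer_singleton_iff.2 ac))
    (zpowers_le.2 (mem_centralizer_singleton_iff.2 bc))) fun hc => by
      rcases m1 c hc with h | ⟨x, hx, h⟩
      · exact ((mem_zp aa).1 h).elim c1 nca
      · rcases (mem_zp aa).1 hx with rfl | rfl
        exacts [ncb (by rw [h, one_mul]), ncab h]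
  rw [e, k2, k1, card_zp aa a1]
  exact ⟨h2, rfl⟩

theorem card_le_two {C : Subgroup G} {y : G} (h : ∀ x ∈ C, x = 1 ∨ x = y) : Nat.card C ≤ 2 :=
  (Set.ncard_le_ncard (show (C : Set G) ⊆ {1, y} from h)).trans
    ((Set.ncard_insert_le _ _).trans (by rw [Set.ncard_singleton]))

theorem card_le_four {C : Subgroup G} {y z w : G} (h : ∀ x ∈ C, x = 1 ∨ x = y ∨ x = z ∨ x = w) :
    Nat.card C ≤ 4 :=
  (Set.ncard_le_ncard (show (C : Set G) ⊆ {1, y, z, w} from h)).trans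
    ((Set.ncard_insert_le _ _).trans (Nat.succ_le_succ ((Set.ncard_insert_le _ _).trans
      (Nat.succ_le_succ ((Set.ncard_insert_le _ _).trans (by rw [Set.ncard_singleton]))))))

theorem four {B : Subgroup G} {t z : G} (tN : t ∈ 𝐍(B)) (tt : t * t = 1) (h2 : ∀ b ∈ B, b * b = 1)
    (h : ∀ b ∈ B, b * t = t * b → b = 1 ∨ b = t ∨ b = z ∨ b = t * z) : Nat.card B ≤ 4 := by
  by_cases tB : t ∈ B
  · exact card_le_four fun b hb => h b hb (comm_of_sq h2 hb tB)
  have k : ∀ x ∈ centralizer {t} ⊓ B, x = 1 ∨ x = z ∨ x = t * z := fun x hx =>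
    (h x hx.2 (mem_centralizer_singleton_iff.1 hx.1)).imp_right fun e =>
      e.resolve_left fun e => tB (e ▸ hx.2)
  have c2 : Nat.card ↥(centralizer {t} ⊓ B) ≤ 2 := by
    by_cases zB : z ∈ B
    · refine card_le_two (y := z) fun x hx => (k x hx).imp_right fun e => e.resolve_right fun e => tB ?_
      have := B.mul_mem hx.2 (B.inv_mem zB)
      rwa [e, mul_inv_cancel_right] at this
    · exact card_le_two (y := t * z) fun x hx => (k x hx).imp_right fun e =>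
        e.resolve_left fun e => zB (e ▸ hx.2)
  refine (H58.Har.count B (centralizer {t} ⊓ B) t fun n hn => ?_).trans (Nat.mul_le_mul c2 c2)
  have m : n * t * n⁻¹ * t⁻¹ ∈ B := by
    rw [mul_assoc, mul_assoc, ← mul_assoc t]
    exact B.mul_mem hn ((mem_normalizer_iff.1 tN _).1 (B.inv_mem hn))
  refine ⟨mem_centralizer_singleton_iff.2 ?_, m⟩
  have e := inv_eq_of_mul_eq_one_right (h2 _ m)
  have ti : t⁻¹ = t := inv_eq_of_mul_eq_one_right tt
  calc n * t * n⁻¹ * t⁻¹ * t = (n * t * n⁻¹ * t⁻¹)⁻¹ * t := by rw [e]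
    _ = t * (n * t⁻¹ * n⁻¹ * t) := by group
    _ = t * (n * t * n⁻¹ * t⁻¹) := by rw [ti]

/-- `x ↦ x xor 1` -/
def pa : Equiv.Perm (Fin 9) := Equiv.swap 0 1 * Equiv.swap 2 3 * (Equiv.swap 4 5 * Equiv.swap 6 7)
/-- `x ↦ x xor 2` -/
def pb : Equiv.Perm (Fin 9) := Equiv.swap 0 2 * Equiv.swap 1 3 * (Equiv.swap 4 6 * Equiv.swap 5 7)
/-- `x ↦ x xor 4` -/
def pc : Equiv.Perm (Fin 9) := Equiv.swap 0 4 * Equiv.swap 1 5 * (Equiv.swap 2 6 * Equiv.swap 3 7)

theorem fix {y : Equiv.Perm (Fin 9)} (ha : y * pa = pa * y) (hb : y * pb = pb * y) (hc : y * pc = pc * y) :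
    y = 1 ∨ y = pa ∨ y = pb ∨ y = pc ∨ y = pa * pb ∨ y = pa * pc ∨ y = pb * pc ∨ y = pa * pb * pc := by
  have a : ∀ i, y (pa i) = pa (y i) := fun i => congrArg (· i) ha
  have b : ∀ i, y (pb i) = pb (y i) := fun i => congrArg (· i) hb
  have c : ∀ i, y (pc i) = pc (y i) := fun i => congrArg (· i) hc
  have h8 : y 8 = 8 := (by decide : ∀ k, pa k = k → k = 8) _ (a 8).symm
  have h1 : y 1 = pa (y 0) := a 0
  have h2 : y 2 = pb (y 0) := b 0
  have h3 : y 3 = pa (y 2) := a 2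
  have h4 : y 4 = pc (y 0) := c 0
  have h5 : y 5 = pa (y 4) := a 4
  have h6 : y 6 = pb (y 4) := b 4
  have h7 : y 7 = pa (y 6) := a 6
  rw [h4] at h5 h6
  rw [h2] at h3
  rw [h6] at h7
  have key : ∀ e : Equiv.Perm (Fin 9), y 0 = e 0 → (e 1 = pa (e 0) ∧ e 2 = pb (e 0) ∧ e 3 = pa (pb (e 0)) ∧
      e 4 = pc (e 0) ∧ e 5 = pa (pc (e 0)) ∧ e 6 = pb (pc (e 0)) ∧ e 7 = pa (pb (pc (e 0))) ∧ e 8 = 8) →
      y = e := by
    rintro e e0 ⟨e1, e2, e3, e4, e5, e6, e7, e8⟩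
    rw [← e0] at e1 e2 e3 e4 e5 e6 e7
    refine Equiv.ext fun i => ?_
    fin_cases i
    exacts [e0, h1.trans e1.symm, h2.trans e2.symm, h3.trans e3.symm, h4.trans e4.symm, h5.trans e5.symm,
      h6.trans e6.symm, h7.trans e7.symm, h8.trans e8.symm]
  have n8 : y 0 ≠ 8 := fun e => absurd (y.injective (e.trans h8.symm)) (by decide)
  rcases (by decide : ∀ k : Fin 9, k ≠ 8 → k = (1 : Equiv.Perm (Fin 9)) 0 ∨ k = pa 0 ∨ k = pb 0 ∨ k = pc 0 ∨
    k = (pa * pb) 0 ∨ k = (pa * pc) 0 ∨ k = (pb * pc) 0 ∨ k = (pa * pb * pc) 0) _ n8 with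
    h | h | h | h | h | h | h | h <;> simp only [key _ h (by decide), true_or, or_true]

theorem pa_mem : pa ∈ alternatingGroup (Fin 9) := by
  simp +decide [pa, Equiv.Perm.mem_alternatingGroup, Equiv.Perm.sign_swap']
theorem pb_mem : pb ∈ alternatingGroup (Fin 9) := by
  simp +decide [pb, Equiv.Perm.mem_alternatingGroup, Equiv.Perm.sign_swap']
theorem pc_mem : pc ∈ alternatingGroup (Fin 9) := by
  simp +decide [pc, Equiv.Perm.mem_alternatingGroup, Equiv.Perm.sign_swap']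

theorem facts : pa * pa = 1 ∧ pb * pb = 1 ∧ pc * pc = 1 ∧ pa * pb = pb * pa ∧ pa * pc = pc * pa ∧
    pb * pc = pc * pb ∧ pa ≠ 1 ∧ pb ≠ 1 ∧ pb ≠ pa ∧ pc ≠ 1 ∧ pc ≠ pa ∧ pc ≠ pb ∧ pc ≠ pa * pb := by
  decide

theorem sub9 {J : Subgroup (Equiv.Perm (Fin 9))} (ma : pa ∈ J) (mb : pb ∈ J) (mc : pc ∈ J) :
    Cfsg.SectionalPRankLE 2 4 J := by
  obtain ⟨f1, f2, f3, f4, f5, f6, f7, f8, f9, f10, f11, f12, f13⟩ := facts
  have fx := @fix
  generalize pa = pa, pb = pb, pc = pc at *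
  obtain ⟨a, rfl⟩ : ∃ a : J, (a : Equiv.Perm (Fin 9)) = pa := ⟨⟨pa, ma⟩, rfl⟩
  obtain ⟨b, rfl⟩ : ∃ a : J, (a : Equiv.Perm (Fin 9)) = pb := ⟨⟨pb, mb⟩, rfl⟩
  obtain ⟨c, rfl⟩ : ∃ a : J, (a : Equiv.Perm (Fin 9)) = pc := ⟨⟨pc, mc⟩, rfl⟩
  obtain ⟨h2, h8⟩ := e8 (a := a) (b := b) (c := c) (Subtype.ext f1) (Subtype.ext f2) (Subtype.ext f3)
    (Subtype.ext f4) (Subtype.ext f5) (Subtype.ext f6)
    (fun e => f7 (congrArg Subtype.val e)) (fun e => f8 (congrArg Subtype.val e))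
    (fun e => f9 (congrArg Subtype.val e)) (fun e => f10 (congrArg Subtype.val e))
    (fun e => f11 (congrArg Subtype.val e)) (fun e => f12 (congrArg Subtype.val e))
    (fun e => f13 (congrArg Subtype.val e))
  obtain ⟨S, hS, hl⟩ := exists_isSylowIn_le (isP_of_P2 fun x hx => P2.of_sq (h2 x hx)) le_top
  refine sr8a hS hl h2 h8 fun x _ hx => ?_
  have k := mem_centralizer_iff.1 hx
  have ha : a ∈ closure ({a, b, c} : Set J) := subset_closure (by simp)
  have hb : b ∈ closure ({a, b, c} : Set J) := subset_closure (by simp)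
  have hc : c ∈ closure ({a, b, c} : Set J) := subset_closure (by simp)
  rcases fx (congrArg Subtype.val (k a ha).symm) (congrArg Subtype.val (k b hb).symm)
    (congrArg Subtype.val (k c hc).symm) with h | h | h | h | h | h | h | h
  · rw [(Subtype.ext h : x = 1)]; exact one_mem _
  · rw [(Subtype.ext h : x = a)]; exact ha
  · rw [(Subtype.ext h : x = b)]; exact hb
  · rw [(Subtype.ext h : x = c)]; exact hc
  · rw [(Subtype.ext h : x = a * b)]; exact mul_mem ha hb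
  · rw [(Subtype.ext h : x = a * c)]; exact mul_mem ha hc
  · rw [(Subtype.ext h : x = b * c)]; exact mul_mem hb hc
  · rw [(Subtype.ext h : x = a * b * c)]; exact mul_mem (mul_mem ha hb) hc

theorem eqns_SR : True := by
  have := @pa.eq_1
  have := @pb.eq_1
  have := @pc.eq_1
  trivial

end SR

open SR

theorem sr8 (hS : IsSylowIn 2 S ⊤) (hW : W ≤ S) (h2 : ∀ a ∈ W, a * a = 1) (h8 : Nat.card W = 8)
    (hC : ∀ x ∈ S, x ∈ 𝐂(W) → x ∈ W) : Cfsg.SectionalPRankLE 2 4 G := by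
  exact sr8a hS hW h2 h8 hC

/-- three independent commuting involutions -/
theorem sr8' (hS : IsSylowIn 2 S ⊤) {a b c : G} (ha : a ∈ S) (hb : b ∈ S) (hc : c ∈ S) (aa : a * a = 1)
    (bb : b * b = 1) (cc : c * c = 1) (ab : a * b = b * a) (ac : a * c = c * a) (bc : b * c = c * b)
    (a1 : a ≠ 1) (b1 : b ≠ 1) (nab : b ≠ a) (c1 : c ≠ 1) (nca : c ≠ a) (ncb : c ≠ b) (ncab : c ≠ a * b)
    (hC : ∀ x ∈ S, x * a = a * x → x * b = b * x → x * c = c * x → x ∈ closure ({a, b, c} : Set G)) :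
    Cfsg.SectionalPRankLE 2 4 G := by
  obtain ⟨h2, h8⟩ := e8 aa bb cc ab ac bc a1 b1 nab c1 nca ncb ncab
  refine sr8 hS ((closure_le _).2 ?_) h2 h8 fun x hx h => ?_
  · rintro _ (rfl | rfl | rfl) <;> assumption
  · have k := mem_centralizer_iff.1 h
    exact hC x hx (k a (subset_closure (by simp))).symm (k b (subset_closure (by simp))).symm
      (k c (subset_closure (by simp))).symm

theorem srt (hS : IsSylowIn 2 S ⊤) {t z : G} (tS : t ∈ S) (tt : t * t = 1)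
    (h : ∀ B ≤ S, S ≤ 𝐍(B) → (∀ b ∈ B, b * b = 1) → ∀ b ∈ B, b * t = t * b →
      b = 1 ∨ b = t ∨ b = z ∨ b = t * z) : Cfsg.SectionalPRankLE 2 4 G := by
  refine of_sec hS (Cfsg.Agent.S0501.result hS.isP fun A hA _ h2 => ?_)
  have n : S ≤ 𝐍(A.map S.subtype) := by
    have := le_normalizer_map (H := A) S.subtype
    rwa [normalizer_eq_top, ← MonoidHom.range_eq_map, range_subtype] at this
  have e : ∀ b ∈ A.map S.subtype, b * b = 1 := by
    rintro _ ⟨a, ha, rfl⟩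
    rw [← map_mul, ← sq, h2 a ha, map_one]
  rw [← card_map_of_injective S.subtype_injective]
  exact four (n tS) tt e (h _ (map_subtype_le _) n e)

theorem srcyc (hS : IsSylowIn 2 S ⊤) {w : G} (hw : w ∈ S) (h : Nat.card S ≤ 8 * orderOf w) :
    Cfsg.SectionalPRankLE 2 4 G := by
  exact H58.Har.sr_of_sylow hS fun H K hH _ hsq => H58.Har.card_le_of_cyclic hw h hH hsq

omit [Finite G] in
theorem sr_sub (h : Cfsg.SectionalPRankLE 2 4 G) (E : Subgroup G) : Cfsg.SectionalPRankLE 2 4 E := by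
  exact ((H83.sr_of_sectional h).subgroup E).sectional

omit [Finite G] in
theorem sr_equiv {H : Type*} [Group H] (e : G ≃* H) (h : Cfsg.SectionalPRankLE 2 4 H) :
    Cfsg.SectionalPRankLE 2 4 G := by
  exact ((H83.sr_of_sectional h).of_injective e.toMonoidHom e.injective).sectional

theorem sr_a9 : Cfsg.SectionalPRankLE 2 4 (alternatingGroup (Fin 9)) := by
  exact sub9 pa_mem pb_mem pc_mem

end H80.A6C
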